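import Cfsg.Agent.Lib.Unitary.Witt
/-
The field with four elements, for SU(6,2).
-/
set_option autoImplicit false

namespace Cfsg.Agent.U62Cover

variable {F : Type*} [Field F] [Fintype F]

theorem card_sq (hF : Fintype.card F = 4) : Fintype.card F = 2 ^ 2 := by rw [hF]; norm_num

theorem two_eq_zero (hF : Fintype.card F = 4) : (2 : F) = 0 := by
  have h : ((Fintype.card F : ℕ) : F) = 0 := Nat.cast_card_eq_zero F
  rw [hF] at h
  have : (2 : F) * 2 = 0 := by
    rw [← h]; norm_num
  simpa using mul_self_eq_zero.1 this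

theorem add_self (hF : Fintype.card F = 4) (a : F) : a + a = 0 := by
  rw [← two_mul, two_eq_zero hF, zero_mul]

theorem pow_three (hF : Fintype.card F = 4) {a : F} (ha : a ≠ 0) : a ^ 3 = 1 := by
  have := FiniteField.pow_card_sub_one_eq_one a ha
  rwa [hF] at this

/-- A primitive cube root of unity. -/
theorem exists_omega (hF : Fintype.card F = 4) : ∃ w : F, w ≠ 0 ∧ w ^ 2 = w + 1 := by
  classical
  have h2 : ({0, 1} : Finset F).card < (Finset.univ : Finset F).card := by
    rw [Finset.card_univ, hF]
    exact lt_of_le_of_lt Finset.card_le_two (by norm_num)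
  obtain ⟨w, -, hw⟩ := Finset.exists_mem_notMem_of_card_lt_card h2
  simp only [Finset.mem_insert, Finset.mem_singleton, not_or] at hw
  refine ⟨w, hw.1, ?_⟩
  have h3 := pow_three hF hw.1
  have hne : w - 1 ≠ 0 := sub_ne_zero.2 hw.2
  have h : w ^ 2 + w + 1 = 0 := by
    have : (w - 1) * (w ^ 2 + w + 1) = 0 := by linear_combination h3
    simpa [hne] using this
  linear_combination h - (w + 1) * two_eq_zero hF

theorem fixed_eq_one (hF : Fintype.card F = 4) {a : F} (ha : a ^ 2 = a) (h0 : a ≠ 0) : a = 1 := by
  have : a * (a - 1) = 0 := by linear_combination ha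
  simpa [h0, sub_eq_zero] using this

end Cfsg.Agent.U62Cover
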