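import Cfsg.Agent.Lib.U62Cover.Field
/-
An involution of SU(n,2) is a product of transvections with pairwise orthogonal isotropic centres.
-/
set_option autoImplicit false

namespace Cfsg.Agent.U62Cover

open scoped Matrix
open Cfsg.Agent.Unitary

variable {F : Type*} [Field F] [Fintype F] {n : ℕ}

/-- The underlying matrix. -/
abbrev mt (g : Cfsg.SU n F 2) : Matrix (Fin n) (Fin n) F :=
  ((g : Matrix.SpecialLinearGroup (Fin n) F) : Matrix (Fin n) (Fin n) F)

theorem su_ext {a b : Cfsg.SU n F 2} (h : ∀ x, mt a *ᵥ x = mt b *ᵥ x) : a = b :=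
  Subtype.ext (Subtype.ext (Matrix.ext_iff_mulVec.2 h))

theorem mt_mul (a b : Cfsg.SU n F 2) (x : Fin n → F) :
    mt (a * b) *ᵥ x = mt a *ᵥ (mt b *ᵥ x) := by
  simp [mt, Matrix.mulVec_mulVec]

/-- The transvection with centre `v` if `v` is isotropic (and `1` otherwise). -/
noncomputable def tv (hF : Fintype.card F = 4) (v : Fin n → F) : Cfsg.SU n F 2 := by
  classical
  exact if hv : Cfsg.hermForm n F 2 v v = 0 then
    suTransvection (card_sq hF) v hv 1 (by rw [one_pow]; exact add_self hF 1) else 1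

theorem tv_mulVec (hF : Fintype.card F = 4) {v : Fin n → F}
    (hv : Cfsg.hermForm n F 2 v v = 0) (x : Fin n → F) :
    mt (tv hF v) *ᵥ x = x + Cfsg.hermForm n F 2 x v • v := by
  unfold tv
  rw [dif_pos hv]
  show Cfsg.unitaryTransvection n 2 v 1 *ᵥ x = _
  rw [transvection_mulVec, one_mul]

theorem tv_sq (hF : Fintype.card F = 4) {v : Fin n → F}
    (hv : Cfsg.hermForm n F 2 v v = 0) : tv hF v * tv hF v = 1 := by
  have H := hermForm_isHerm (card_sq hF) n
  refine su_ext fun x => ?_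
  rw [mt_mul, tv_mulVec hF hv, tv_mulVec hF hv, H.add_left, H.smul_left, hv, mul_zero, add_zero]
  funext i
  simp [mt, add_assoc, add_self hF]

theorem tv_conj (hF : Fintype.card F = 4) (g : Cfsg.SU n F 2) {v : Fin n → F}
    (hv : Cfsg.hermForm n F 2 v v = 0) : g * tv hF v = tv hF (mt g *ᵥ v) * g := by
  have hv' : Cfsg.hermForm n F 2 (mt g *ᵥ v) (mt g *ᵥ v) = 0 := (SU_apply g v v).trans hv
  refine su_ext fun x => ?_
  rw [mt_mul, mt_mul, tv_mulVec hF hv, tv_mulVec hF hv', Matrix.mulVec_add, Matrix.mulVec_smul,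
    SU_apply g x v]

theorem tv_fix (hF : Fintype.card F = 4) {u v : Fin n → F} (hu : Cfsg.hermForm n F 2 u u = 0)
    (hvu : Cfsg.hermForm n F 2 v u = 0) : mt (tv hF u) *ᵥ v = v := by
  rw [tv_mulVec hF hu, hvu, zero_smul, add_zero]

theorem tv_comm (hF : Fintype.card F = 4) {u v : Fin n → F} (hu : Cfsg.hermForm n F 2 u u = 0)
    (hv : Cfsg.hermForm n F 2 v v = 0) (hvu : Cfsg.hermForm n F 2 v u = 0) :
    tv hF u * tv hF v = tv hF v * tv hF u := by
  rw [tv_conj hF (tv hF u) hv, tv_fix hF hu hvu]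

/-- Pairwise orthogonal isotropic vectors. -/
def OrthList (F : Type*) [Field F] [Fintype F] {n : ℕ} (L : List (Fin n → F)) : Prop :=
  ∀ u ∈ L, ∀ v ∈ L, Cfsg.hermForm n F 2 u v = 0

/-- The range of `y - 1`. -/
def InRange (y : Cfsg.SU n F 2) (v : Fin n → F) : Prop := ∃ z, mt y *ᵥ z = z + v

theorem exists_list_aux (hF : Fintype.card F = 4) (k : ℕ) : ∀ y : Cfsg.SU n F 2, y * y = 1 →
    Nat.card F ^ n ≤ Nat.card {x : Fin n → F // mt y *ᵥ x = x} + k →
    ∃ L : List (Fin n → F), (∀ v ∈ L, InRange y v) ∧ y = (L.map (tv hF)).prod := by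
  have hF2 := card_sq hF
  have H := hermForm_isHerm hF2 n
  induction k with
  | zero =>
    intro y _ hcard
    refine ⟨[], by simp, ?_⟩
    refine su_ext fun x => ?_
    have hall : Function.Surjective
        (fun z : {x : Fin n → F // mt y *ᵥ x = x} => (z : Fin n → F)) := by
      refine ((Function.Injective.bijective_of_nat_card_le Subtype.val_injective) ?_).2
      rw [Nat.card_fun, Nat.card_fin]
      simpa using hcard
    obtain ⟨z, rfl⟩ := hall x
    simpa [mt] using z.2
  | succ k ih =>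
    intro y hy hcard
    by_cases hfix : ∀ x, mt y *ᵥ x = x
    · exact ⟨[], by simp, su_ext fun x => by simpa [mt] using hfix x⟩
    have hyy : ∀ x, mt y *ᵥ (mt y *ᵥ x) = x := fun x => by
      rw [← mt_mul, hy]; simp [mt]
    have hadj : ∀ x z, Cfsg.hermForm n F 2 (mt y *ᵥ x) z =
        Cfsg.hermForm n F 2 x (mt y *ᵥ z) := fun x z => by
      conv_lhs => rw [← hyy z]
      exact SU_apply y x (mt y *ᵥ z)
    -- the hermitian form `h ((y - 1) x) z`
    let φ : (Fin n → F) → (Fin n → F) → F := fun x z =>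
      Cfsg.hermForm n F 2 (mt y *ᵥ x - x) z
    have hφ : IsHerm 2 φ := by
      refine ⟨fun a b z => ?_, fun c a z => ?_, fun a b => ?_⟩
      · simp only [φ, Matrix.mulVec_add, H.sub_left, H.add_left]; ring
      · simp only [φ, Matrix.mulVec_smul, H.sub_left, H.smul_left]; ring
      · simp only [φ, H.sub_left]
        rw [hadj b a, sub_pow_q hF2, ← H.conj_symm, ← H.conj_symm]
    obtain ⟨x, hx⟩ : ∃ x, φ x x ≠ 0 := by
      by_contra hc
      simp only [ne_eq, not_exists, not_not] at hc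
      refine hfix fun x => sub_eq_zero.1 (hermForm_nondeg hF2 n _ fun z => ?_)
      exact hφ.eq_zero_of_isotropic hF2 hc x z
    have hx1 : φ x x = 1 := fixed_eq_one hF (hφ.self_fixed x) hx
    obtain ⟨w, hw⟩ : ∃ w, w = mt y *ᵥ x - x := ⟨_, rfl⟩
    have hyx : mt y *ᵥ x = x + w := by rw [hw]; abel
    have hyw : mt y *ᵥ w = w := by
      rw [hw, Matrix.mulVec_sub, hyy]
      funext i
      simp only [Pi.sub_apply]
      linear_combination (x i - (mt y *ᵥ x) i) * two_eq_zero hF
    have hw0 : Cfsg.hermForm n F 2 w w = 0 := by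
      nth_rewrite 1 [hw]
      rw [H.sub_left, hadj, hyw, sub_self]
    have hxw : Cfsg.hermForm n F 2 x w = 1 := by
      rw [H.conj_symm w x]
      have : Cfsg.hermForm n F 2 w x = 1 := by rw [hw]; exact hx1
      rw [this, one_pow]
    let y' := y * tv hF w
    have hy' : ∀ z, mt y' *ᵥ z = mt y *ᵥ z + Cfsg.hermForm n F 2 z w • w := fun z => by
      rw [mt_mul, tv_mulVec hF hw0, Matrix.mulVec_add, Matrix.mulVec_smul, hyw]
    have hcomm : y * tv hF w = tv hF w * y := by rw [tv_conj hF y hw0, hyw]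
    have hy'2 : y' * y' = 1 := by
      show y * tv hF w * (y * tv hF w) = 1
      calc y * tv hF w * (y * tv hF w) = tv hF w * (y * y) * tv hF w := by
            rw [hcomm]; simp only [mul_assoc, hcomm]
        _ = 1 := by rw [hy, mul_one, tv_sq hF hw0]
    have hfix' : ∀ z, mt y *ᵥ z = z → mt y' *ᵥ z = z := fun z hz => by
      have : Cfsg.hermForm n F 2 z w = 0 := by
        rw [hw, H.sub_right hF2, ← hadj, hz, sub_self]
      rw [hy', hz, this, zero_smul, add_zero]
    have hxfix : mt y' *ᵥ x = x := by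
      rw [hy', hyx, hxw, one_smul]
      funext i
      simp [add_assoc, add_self hF]
    have hlt : Nat.card {z : Fin n → F // mt y *ᵥ z = z} <
        Nat.card {z : Fin n → F // mt y' *ᵥ z = z} := by
      refine (Set.ncard_lt_ncard (s := {z | mt y *ᵥ z = z}) (t := {z | mt y' *ᵥ z = z})
        ⟨fun z hz => hfix' z hz, fun hc => hx ?_⟩)
      have := hc (show x ∈ {z | mt y' *ᵥ z = z} from hxfix)
      simp only [Set.mem_setOf_eq] at this
      show Cfsg.hermForm n F 2 (mt y *ᵥ x - x) x = 0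
      rw [this, sub_self, H.zero_left]
    obtain ⟨L, hL, hLy⟩ := ih y' hy'2 (by omega)
    refine ⟨L ++ [w], fun v hv => ?_, ?_⟩
    · rcases List.mem_append.1 hv with h | h
      · obtain ⟨z, hz⟩ := hL v h
        refine ⟨z + Cfsg.hermForm n F 2 z w • x, ?_⟩
        rw [hy'] at hz
        rw [Matrix.mulVec_add, Matrix.mulVec_smul, hyx, smul_add]
        rw [eq_sub_of_add_eq hz]
        abel
      · simp only [List.mem_singleton] at h
        exact ⟨x, by rw [h]; exact hyx⟩
    · rw [List.map_append, List.prod_append, ← hLy]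
      simp only [List.map_cons, List.map_nil, List.prod_cons, List.prod_nil, mul_one]
      show y = y * tv hF w * tv hF w
      rw [mul_assoc, tv_sq hF hw0, mul_one]

/-- An involution of `SU(n,2)` is a product of pairwise commuting transvections. -/
theorem exists_list (hF : Fintype.card F = 4) (y : Cfsg.SU n F 2) (hy : y * y = 1) :
    ∃ L : List (Fin n → F), OrthList F L ∧ y = (L.map (tv hF)).prod := by
  have hF2 := card_sq hF
  have H := hermForm_isHerm hF2 n
  obtain ⟨L, hL, hLy⟩ := exists_list_aux hF (Nat.card F ^ n) y hy (Nat.le_add_left _ _)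
  refine ⟨L, fun u hu v hv => ?_, hLy⟩
  obtain ⟨a, ha⟩ := hL u hu
  obtain ⟨b, hb⟩ := hL v hv
  have hyy : mt y *ᵥ (mt y *ᵥ b) = b := by rw [← mt_mul, hy]; simp [mt]
  have h1 : Cfsg.hermForm n F 2 (mt y *ᵥ a) b = Cfsg.hermForm n F 2 a (mt y *ᵥ b) := by
    conv_lhs => rw [← hyy]
    exact SU_apply y a (mt y *ᵥ b)
  have h2 : Cfsg.hermForm n F 2 (mt y *ᵥ a) (mt y *ᵥ b) = Cfsg.hermForm n F 2 a b := SU_apply y a b
  rw [ha, hb] at h2
  rw [ha, hb] at h1
  simp only [H.add_left, H.add_right hF2] at h1 h2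
  linear_combination h2 - h1 + (-Cfsg.hermForm n F 2 a v) * two_eq_zero hF

end Cfsg.Agent.U62Cover
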