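import Cfsg.Agent.Lib.U62Cover.Decomp
/-
Central extensions of PSU(6,2) with kernel of exponent 2: every involution lifts to an involution.

For a totally isotropic plane, the five transvections centred at its points multiply to 1. With a
sixth one commuting with them, this kills the (constant) commutator of the lifts of two commuting
transvections, and then the (constant) square of the lift of a transvection.
-/
set_option autoImplicit false

namespace Cfsg.Agent.U62Cover

open scoped Matrix
open Cfsg.Agent.Unitary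

variable {F : Type*} [Field F] [Fintype F]

/-- Three mutually orthogonal isotropic vectors, and a norm-one vector orthogonal to the first two. -/
def p1 : Fin 6 → F := ![1, 1, 0, 0, 0, 0]
/-- See `p1`. -/
def p2 : Fin 6 → F := ![0, 0, 1, 1, 0, 0]
/-- See `p1`. -/
def p3 : Fin 6 → F := ![0, 0, 0, 0, 1, 1]
/-- See `p1`. -/
def e4 : Fin 6 → F := ![0, 0, 0, 0, 1, 0]

theorem herm_std (hF : Fintype.card F = 4) :
    Cfsg.hermForm 6 F 2 (p1 : Fin 6 → F) p1 = 0 ∧ Cfsg.hermForm 6 F 2 (p2 : Fin 6 → F) p2 = 0 ∧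
    Cfsg.hermForm 6 F 2 (p3 : Fin 6 → F) p3 = 0 ∧ Cfsg.hermForm 6 F 2 (e4 : Fin 6 → F) e4 = 1 ∧
    Cfsg.hermForm 6 F 2 (p1 : Fin 6 → F) p2 = 0 ∧ Cfsg.hermForm 6 F 2 (p2 : Fin 6 → F) p1 = 0 ∧
    Cfsg.hermForm 6 F 2 (p1 : Fin 6 → F) p3 = 0 ∧ Cfsg.hermForm 6 F 2 (p3 : Fin 6 → F) p1 = 0 ∧
    Cfsg.hermForm 6 F 2 (p2 : Fin 6 → F) p3 = 0 ∧ Cfsg.hermForm 6 F 2 (p3 : Fin 6 → F) p2 = 0 ∧
    Cfsg.hermForm 6 F 2 (p1 : Fin 6 → F) e4 = 0 ∧ Cfsg.hermForm 6 F 2 (p2 : Fin 6 → F) e4 = 0 := by
  simp [Cfsg.hermForm, p1, p2, p3, e4, Fin.sum_univ_six, add_self hF]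

/-- `p1 + c p2`. -/
def pt (c : F) : Fin 6 → F := p1 + c • p2

theorem herm_pt (hF : Fintype.card F = 4) (a b : F) :
    Cfsg.hermForm 6 F 2 (pt a) (pt b) = 0 ∧ Cfsg.hermForm 6 F 2 (p2 : Fin 6 → F) (pt b) = 0 ∧
    Cfsg.hermForm 6 F 2 (pt a) p2 = 0 ∧ Cfsg.hermForm 6 F 2 (p3 : Fin 6 → F) (pt b) = 0 ∧
    Cfsg.hermForm 6 F 2 (pt a) p3 = 0 := by
  obtain ⟨h11, h22, -, -, h12, h21, h13, h31, h23, h32, -, -⟩ := herm_std (F := F) hF
  have H := hermForm_isHerm (card_sq hF) 6
  simp only [pt, H.add_left, H.add_right (card_sq hF), H.smul_left, H.smul_right,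
    h11, h22, h12, h21, h13, h31, h23, h32, mul_zero, add_zero, and_self]

/-- The five points of the line through `p1` and `p2`. -/
def line (w : F) : List (Fin 6 → F) := [pt 0, p2, pt 1, pt w, pt (w + 1)]

theorem line_herm (hF : Fintype.card F = 4) (w : F) : ∀ v ∈ line w,
    Cfsg.hermForm 6 F 2 v v = 0 ∧ Cfsg.hermForm 6 F 2 v p3 = 0 ∧ ∀ u ∈ line w,
      Cfsg.hermForm 6 F 2 v u = 0 := by
  obtain ⟨-, h22, -, -, -, -, -, -, h23, -, -, -⟩ := herm_std (F := F) hF
  intro v hv
  simp only [line, List.mem_cons, List.not_mem_nil, or_false] at hv ⊢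
  have key : ∀ a : F, Cfsg.hermForm 6 F 2 (pt a) (pt a) = 0 ∧
      Cfsg.hermForm 6 F 2 (pt a) p3 = 0 := fun a =>
    ⟨(herm_pt hF a a).1, (herm_pt hF a a).2.2.2.2⟩
  rcases hv with rfl | rfl | rfl | rfl | rfl <;>
    refine ⟨by first | exact h22 | exact (key _).1, by first | exact h23 | exact (key _).2,
      fun u hu => ?_⟩ <;>
    rcases hu with rfl | rfl | rfl | rfl | rfl <;>
    first
      | exact h22
      | exact (herm_pt hF _ _).1
      | exact (herm_pt hF 0 _).2.1
      | exact (herm_pt hF _ 0).2.2.1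

/-- The product of the five transvections of a totally isotropic line is `1`. -/
theorem line_prod (hF : Fintype.card F = 4) {w : F} (hw : w ^ 2 = w + 1) :
    ((line w).map (tv hF)).prod = 1 := by
  have H := hermForm_isHerm (card_sq hF) 6
  have hl := line_herm hF w
  refine su_ext fun x => ?_
  simp only [line, List.map_cons, List.map_nil, List.prod_cons, List.prod_nil, mul_one, mt_mul]
  have hi : ∀ v ∈ line w, Cfsg.hermForm 6 F 2 v v = 0 := fun v hv => (hl v hv).1
  have ho : ∀ v ∈ line w, ∀ u ∈ line w, Cfsg.hermForm 6 F 2 v u = 0 := fun v hv => (hl v hv).2.2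
  have step : ∀ v ∈ line w, ∀ y, mt (tv hF v) *ᵥ y = y + Cfsg.hermForm 6 F 2 y v • v :=
    fun v hv y => tv_mulVec hF (hi v hv) y
  simp only [line, List.mem_cons, List.not_mem_nil, or_false, forall_eq_or_imp, forall_eq]
    at step ho
  obtain ⟨s1, s2, s3, s4, s5⟩ := step
  simp only [s1, s2, s3, s4, s5, H.add_left, H.smul_left, ho, mul_zero, add_zero]
  simp only [pt, H.add_right (card_sq hF), H.smul_right, mt, OneMemClass.coe_one,
    Matrix.SpecialLinearGroup.coe_one, Matrix.one_mulVec]
  funext i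
  simp only [Pi.add_apply, Pi.smul_apply, smul_eq_mul]
  have h2 := two_eq_zero hF
  grind

variable {H : Type*} [Group H] (ψ : H →* Cfsg.PSU 6 F 2) (hψ : Function.Surjective ψ)
  (hc : ψ.ker ≤ Subgroup.center H) (hk : ∀ k ∈ ψ.ker, k * k = 1)

/-- The image in `PSU(6,2)` of a transvection. -/
noncomputable def tP (hF : Fintype.card F = 4) (v : Fin 6 → F) : Cfsg.PSU 6 F 2 :=
  QuotientGroup.mk (tv hF v)

/-- A chosen lift of a transvection. -/
noncomputable def lift (hF : Fintype.card F = 4) (v : Fin 6 → F) : H :=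
  Function.surjInv hψ (tP hF v)

theorem lift_spec (hF : Fintype.card F = 4) (v : Fin 6 → F) : ψ (lift ψ hψ hF v) = tP hF v :=
  Function.surjInv_eq hψ _

include hc in
theorem central {k : H} (hkk : ψ k = 1) (x : H) : k * x = x * k :=
  (Subgroup.mem_center_iff.1 (hc (MonoidHom.mem_ker.2 hkk)) x).symm

include hc hk in
theorem sq_eq_of_eq {a b : H} (h : ψ a = ψ b) : a * a = b * b := by
  have hk' : ψ (b⁻¹ * a) = 1 := by rw [map_mul, map_inv, h, inv_mul_cancel]
  have e : a = b * (b⁻¹ * a) := by group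
  generalize b⁻¹ * a = k at hk' e
  subst e
  calc b * k * (b * k) = b * (k * b) * k := by simp only [mul_assoc]
    _ = b * b * (k * k) := by rw [central ψ hc hk']; simp only [mul_assoc]
    _ = b * b := by rw [hk k (MonoidHom.mem_ker.2 hk'), mul_one]

include hc in
theorem comm_eq_of_eq {a a' b b' : H} (ha : ψ a = ψ a') (hb : ψ b = ψ b') :
    a * b * a⁻¹ * b⁻¹ = a' * b' * a'⁻¹ * b'⁻¹ := by
  obtain ⟨k, hk1, rfl⟩ : ∃ k, ψ k = 1 ∧ a = k * a' :=
    ⟨a * a'⁻¹, by rw [map_mul, map_inv, ha, mul_inv_cancel], by group⟩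
  obtain ⟨l, hl1, rfl⟩ : ∃ l, ψ l = 1 ∧ b = l * b' :=
    ⟨b * b'⁻¹, by rw [map_mul, map_inv, hb, mul_inv_cancel], by group⟩
  have ck : ∀ x, k * x = x * k := central ψ hc hk1
  have cl : ∀ x, l * x = x * l := central ψ hc hl1
  calc k * a' * (l * b') * (k * a')⁻¹ * (l * b')⁻¹
      = k * (a' * l) * b' * a'⁻¹ * k⁻¹ * (b'⁻¹ * l⁻¹) := by group
    _ = (k * l) * (a' * b' * a'⁻¹ * b'⁻¹) * (k * l)⁻¹ := by
        rw [← cl a']
        have ck' : ∀ x, k⁻¹ * x = x * k⁻¹ := fun x =>
          central ψ hc (by rw [map_inv, hk1, inv_one]) x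
        rw [mul_inv_rev]
        simp only [mul_assoc]
        rw [ck' (b'⁻¹ * l⁻¹)]
        simp only [mul_assoc]
    _ = a' * b' * a'⁻¹ * b'⁻¹ := by
        have : ∀ x, (k * l) * x = x * (k * l) :=
          central ψ hc (by rw [map_mul, hk1, hl1, mul_one])
        rw [this, mul_inv_cancel_right]

include hc hk in
/-- Lifts of orthogonal transvections commute and lifts of transvections square to `1`. -/
theorem lift_props (hF : Fintype.card F = 4) :
    (∀ u v : Fin 6 → F, Cfsg.hermForm 6 F 2 u u = 0 → Cfsg.hermForm 6 F 2 v v = 0 →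
      Cfsg.hermForm 6 F 2 u v = 0 → Commute (lift ψ hψ hF u) (lift ψ hψ hF v)) ∧
    (∀ v : Fin 6 → F, Cfsg.hermForm 6 F 2 v v = 0 → lift ψ hψ hF v * lift ψ hψ hF v = 1) := by
  classical
  have hF2 := card_sq hF
  have HH := hermForm_isHerm hF2 6
  obtain ⟨h11, h22, h33, he, h12, h21, h13, h31, h23, h32, h1e, h2e⟩ := herm_std (F := F) hF
  set a := lift ψ hψ hF with ha
  set c : (Fin 6 → F) → (Fin 6 → F) → H := fun u v => a u * a v * (a u)⁻¹ * (a v)⁻¹ with hcdef
  -- conjugation
  have hconj : ∀ (g : Cfsg.SU 6 F 2) (u : Fin 6 → F), Cfsg.hermForm 6 F 2 u u = 0 → ∀ gh : H,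
      ψ gh = QuotientGroup.mk g → ψ (gh * a u * gh⁻¹) = ψ (a (mt g *ᵥ u)) := by
    intro g u hu gh hgh
    rw [map_mul, map_mul, map_inv, hgh, lift_spec, lift_spec, tP, tP, ← QuotientGroup.mk_mul,
      ← QuotientGroup.mk_inv, ← QuotientGroup.mk_mul, tv_conj hF g hu, mul_inv_cancel_right]
  have hcker : ∀ u v : Fin 6 → F, Cfsg.hermForm 6 F 2 u u = 0 → Cfsg.hermForm 6 F 2 v v = 0 →
      Cfsg.hermForm 6 F 2 v u = 0 → ψ (c u v) = 1 := by
    intro u v hu hv huv
    simp only [hcdef, map_mul, map_inv, ha, lift_spec, tP]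
    rw [← QuotientGroup.mk_mul, tv_comm hF hu hv huv, QuotientGroup.mk_mul]
    group
  have hsker : ∀ u : Fin 6 → F, Cfsg.hermForm 6 F 2 u u = 0 → ψ (a u * a u) = 1 := by
    intro u hu
    rw [map_mul, ha, lift_spec, tP, ← QuotientGroup.mk_mul, tv_sq hF hu, QuotientGroup.mk_one]
  -- the commutator is constant on independent pairs
  have hconst : ∀ u v : Fin 6 → F, Cfsg.hermForm 6 F 2 u u = 0 → Cfsg.hermForm 6 F 2 v v = 0 →
      Cfsg.hermForm 6 F 2 u v = 0 → LinearIndependent F ![u, v] → c u v = c p1 p2 := by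
    intro u v hu hv huv hli
    have hvu : Cfsg.hermForm 6 F 2 v u = 0 := (HH.eq_zero_symm hF2).1 huv
    have hli' : LinearIndependent F ![(p1 : Fin 6 → F), p2] := by
      refine LinearIndependent.pair_iff.2 fun s t h => ⟨?_, ?_⟩
      · simpa [p1, p2] using congrFun h 0
      · simpa [p1, p2] using congrFun h 2
    obtain ⟨g, hg⟩ := exists_su_witt hF2 hli hli' (e := e4) (fun i j => by
      fin_cases i <;> fin_cases j <;> simp [h11, h22, h12, h21, hu, hv, huv, hvu]) he
      (fun i => by fin_cases i <;> simp [h1e, h2e])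
    have g1 : mt g *ᵥ u = p1 := by simpa using hg 0
    have g2 : mt g *ᵥ v = p2 := by simpa using hg 1
    obtain ⟨gh, hgh⟩ := hψ (QuotientGroup.mk g)
    have e1 := hconj g u hu gh hgh
    have e2 := hconj g v hv gh hgh
    rw [g1] at e1
    rw [g2] at e2
    have e3 := comm_eq_of_eq ψ hc e1 e2
    have hz := central ψ hc (hcker u v hu hv hvu) gh⁻¹
    calc c u v = gh * (c u v * gh⁻¹) := by rw [hz]; group
      _ = c p1 p2 := by rw [hcdef]; simp only []; rw [← e3]; group
  have hsconst : ∀ u : Fin 6 → F, Cfsg.hermForm 6 F 2 u u = 0 → u ≠ 0 →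
      a u * a u = a p1 * a p1 := by
    intro u hu hu0
    have hli : LinearIndependent F ![u] := linearIndependent_unique_iff.2 (by simpa using hu0)
    have hli' : LinearIndependent F ![(p1 : Fin 6 → F)] :=
      linearIndependent_unique_iff.2 (by
        intro h; simpa [p1] using congrFun h 0)
    obtain ⟨g, hg⟩ := exists_su_witt hF2 hli hli' (e := e4) (fun i j => by
      fin_cases i; fin_cases j; simp [h11, hu]) he (fun i => by fin_cases i; simp [h1e])
    have g1 : mt g *ᵥ u = p1 := by simpa using hg 0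
    obtain ⟨gh, hgh⟩ := hψ (QuotientGroup.mk g)
    have e1 := hconj g u hu gh hgh
    rw [g1] at e1
    have e3 := sq_eq_of_eq ψ hc hk e1
    have hz := central ψ hc (hsker u hu) gh⁻¹
    calc a u * a u = gh * (a u * a u * gh⁻¹) := by rw [hz]; group
      _ = a p1 * a p1 := by rw [← e3]; group
  -- the line relation
  obtain ⟨w, -, hw⟩ := exists_omega hF
  have hl := line_herm hF w
  set P := ((line w).map a).prod with hP
  have hPk : ψ P = 1 := by
    rw [hP, map_list_prod, List.map_map]
    have e : (⇑ψ ∘ a) = (QuotientGroup.mk' (Subgroup.center (Cfsg.SU 6 F 2))) ∘ tv hF := by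
      funext v; simp [ha, lift_spec, tP]
    rw [e, ← List.map_map, ← map_list_prod, line_prod hF hw, map_one]
  set c0 := c p1 p2 with hc0def
  have hc0k : ψ c0 = 1 := hcker p1 p2 h11 h22 h21
  have hc0c : ∀ x, c0 * x = x * c0 := central ψ hc hc0k
  have hp3 : ∀ v ∈ line w, a p3 * a v = c0 * a v * a p3 := by
    intro v hv
    have hli : LinearIndependent F ![(p3 : Fin 6 → F), v] := by
      refine LinearIndependent.pair_iff.2 fun s t h => ?_
      simp only [line, List.mem_cons, List.not_mem_nil, or_false] at hv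
      have h4 : s = 0 := by
        rcases hv with rfl | rfl | rfl | rfl | rfl <;>
          simpa [p1, p2, p3, pt] using congrFun h 4
      refine ⟨h4, ?_⟩
      subst h4
      rcases hv with rfl | rfl | rfl | rfl | rfl
      · simpa [p1, p2, p3, pt] using congrFun h 0
      · simpa [p1, p2, p3, pt] using congrFun h 2
      all_goals simpa [p1, p2, p3, pt] using congrFun h 0
    have := hconst p3 v h33 (hl v hv).1 ((HH.eq_zero_symm hF2).1 (hl v hv).2.1) hli
    simp only [hcdef] at this
    have e : a p3 * a v = (a p3 * a v * (a p3)⁻¹ * (a v)⁻¹) * a v * a p3 := by group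
    rw [e, this, hc0def]
  have hmove : ∀ L : List (Fin 6 → F), (∀ v ∈ L, v ∈ line w) →
      a p3 * (L.map a).prod = c0 ^ L.length * (L.map a).prod * a p3 := by
    intro L
    induction L with
    | nil => simp
    | cons v L ih =>
      intro hL
      have ih' := ih fun x hx => hL x (List.mem_cons_of_mem _ hx)
      rw [List.map_cons, List.prod_cons, List.length_cons, ← mul_assoc,
        hp3 v (hL v List.mem_cons_self), mul_assoc (c0 * a v), ih', pow_succ']
      have hcp : Commute (a v) (c0 ^ L.length) :=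
        (show Commute c0 (a v) from hc0c _).symm.pow_right _
      simp only [mul_assoc]
      rw [← mul_assoc (a v) (c0 ^ L.length), hcp.eq]
      simp only [mul_assoc]
  have hc01 : c0 = 1 := by
    have h1 := hmove (line w) fun v hv => hv
    have h5 : c0 ^ (line w).length = 1 := by
      have h2 := central ψ hc hPk (a p3)
      rw [← hP, ← h2, mul_assoc] at h1
      exact mul_eq_right.1 h1.symm
    have h2 : c0 * c0 = 1 := hk _ (MonoidHom.mem_ker.2 hc0k)
    have e : c0 ^ (line w).length = c0 := by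
      simp [line, pow_succ, h2]
    rw [← e, h5]
  have hcomm : ∀ u v : Fin 6 → F, Cfsg.hermForm 6 F 2 u u = 0 → Cfsg.hermForm 6 F 2 v v = 0 →
      Cfsg.hermForm 6 F 2 u v = 0 → Commute (a u) (a v) := by
    intro u v hu hv huv
    rw [← commutatorElement_eq_one_iff_commute, commutatorElement_def]
    by_cases hli : LinearIndependent F ![u, v]
    · exact (hconst u v hu hv huv hli).trans hc01
    · -- dependent pair
      by_cases hu0 : u = 0
      · have h1 : ψ (a u) = ψ 1 := by
          rw [ha, lift_spec, map_one, tP, hu0]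
          have : tv hF (0 : Fin 6 → F) = 1 := su_ext fun x => by
            rw [tv_mulVec hF (HH.zero_left 0), smul_zero, add_zero]; simp [mt]
          rw [this, QuotientGroup.mk_one]
        rw [comm_eq_of_eq ψ hc h1 (rfl : ψ (a v) = ψ (a v))]
        group
      · rw [LinearIndependent.pair_iff' hu0] at hli
        simp only [ne_eq, not_forall, not_not] at hli
        obtain ⟨r, hr⟩ := hli
        by_cases hr0 : r = 0
        · have hv0 : v = 0 := by rw [← hr, hr0, zero_smul]
          have h1 : ψ (a v) = ψ 1 := by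
            rw [ha, lift_spec, map_one, tP, hv0]
            have : tv hF (0 : Fin 6 → F) = 1 := su_ext fun x => by
              rw [tv_mulVec hF (HH.zero_left 0), smul_zero, add_zero]; simp [mt]
            rw [this, QuotientGroup.mk_one]
          rw [comm_eq_of_eq ψ hc (rfl : ψ (a u) = ψ (a u)) h1]
          group
        · have h1 : ψ (a v) = ψ (a u) := by
            rw [ha, lift_spec, lift_spec, tP, tP]
            congr 1
            refine su_ext fun x => ?_
            rw [tv_mulVec hF hu, tv_mulVec hF hv, ← hr, HH.smul_right, smul_smul]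
            congr 2
            have := pow_three hF hr0
            linear_combination (Cfsg.hermForm 6 F 2 x u) * this
          rw [comm_eq_of_eq ψ hc (rfl : ψ (a u) = ψ (a u)) h1]
          group
  refine ⟨hcomm, ?_⟩
  -- squares
  have hsq : ∀ L : List (Fin 6 → F), OrthList F L →
      (L.map a).prod * (L.map a).prod = (L.map fun v => a v * a v).prod := by
    intro L
    induction L with
    | nil => simp
    | cons v L ih =>
      intro hL
      have hv : ∀ x ∈ L, Commute (a v) (a x) := fun x hx =>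
        hcomm v x (hL v List.mem_cons_self v List.mem_cons_self)
          (hL x (List.mem_cons_of_mem _ hx) x (List.mem_cons_of_mem _ hx))
          (hL v List.mem_cons_self x (List.mem_cons_of_mem _ hx))
      have hvp : Commute (a v) (L.map a).prod := Commute.list_prod_right _ _ fun y hy => by
        obtain ⟨x, hx, rfl⟩ := List.mem_map.1 hy
        exact hv x hx
      rw [List.map_cons, List.prod_cons, List.map_cons, List.prod_cons,
        ← ih fun x hx y hy => hL x (List.mem_cons_of_mem _ hx) y (List.mem_cons_of_mem _ hy)]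
      calc a v * (L.map a).prod * (a v * (L.map a).prod)
          = a v * ((L.map a).prod * a v) * (L.map a).prod := by simp only [mul_assoc]
        _ = a v * a v * ((L.map a).prod * (L.map a).prod) := by
            rw [← hvp.eq]; simp only [mul_assoc]
  set s0 := a p1 * a p1 with hs0
  have hs01 : s0 = 1 := by
    have h1 := hsq (line w) fun u hu v hv => (hl u hu).2.2 v hv
    rw [← hP, hk P (MonoidHom.mem_ker.2 hPk)] at h1
    have e : ∀ v ∈ line w, a v * a v = s0 := by
      intro v hv
      refine hsconst v (hl v hv).1 fun h => ?_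
      subst h
      simp only [line, List.mem_cons, List.not_mem_nil, or_false] at hv
      rcases hv with h | h | h | h | h
      · simpa [p1, p2, pt] using congrFun h 0
      · simpa [p1, p2, pt] using congrFun h 2
      all_goals simpa [p1, p2, pt] using congrFun h 0
    rw [List.map_congr_left e] at h1
    have h2 : s0 * s0 = 1 := hk _ (MonoidHom.mem_ker.2 (hsker p1 h11))
    have e5 : ((line w).map fun _ => s0).prod = s0 := by
      simp [line, ← mul_assoc, h2]
    rw [e5] at h1
    exact h1.symm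
  intro v hv
  by_cases hv0 : v = 0
  · have h1 : ψ (a v) = ψ 1 := by
      rw [ha, lift_spec, map_one, tP, hv0]
      have : tv hF (0 : Fin 6 → F) = 1 := su_ext fun x => by
        rw [tv_mulVec hF (HH.zero_left 0), smul_zero, add_zero]; simp [mt]
      rw [this, QuotientGroup.mk_one]
    rw [sq_eq_of_eq ψ hc hk h1, one_mul]
  · exact (hsconst v hv hv0).trans hs01

include hψ hc hk in
/-- Every involution of PSU(6,2) lifts to an involution of a central extension with kernel of
exponent 2. -/
theorem exists_involution_lift (hF : Fintype.card F = 4) (x : Cfsg.PSU 6 F 2) (hx : x * x = 1) :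
    ∃ y : H, y * y = 1 ∧ ψ y = x := by
  obtain ⟨y₀, rfl⟩ := QuotientGroup.mk_surjective x
  have hy0 : y₀ * y₀ ∈ Subgroup.center (Cfsg.SU 6 F 2) := by
    rw [← QuotientGroup.eq_one_iff, QuotientGroup.mk_mul]; exact hx
  obtain ⟨z, -, hz3, hz⟩ := center_SU_scalar (card_sq hF) (by norm_num) hy0
  have hZ3 : (y₀ * y₀) * (y₀ * y₀) * (y₀ * y₀) = 1 := by
    refine su_ext fun v => ?_
    simp only [mt_mul]
    have hzv : ∀ u, mt y₀ *ᵥ (mt y₀ *ᵥ u) = z • u := fun u => by
      rw [← mt_mul]
      show ((y₀ * y₀ : Cfsg.SU 6 F 2) : Matrix.SpecialLinearGroup (Fin 6) F).1 *ᵥ u = _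
      rw [hz]
      funext i
      simp [Matrix.scalar, Matrix.mulVec_diagonal]
    rw [hzv, hzv, hzv, smul_smul, smul_smul]
    simp only [show z * z * z = 1 by linear_combination hz3]
    simp [mt]
  set y := y₀ * (y₀ * y₀) with hy
  have hyy : y * y = 1 := by
    rw [← hZ3, hy]; simp only [mul_assoc]
  have hym : (QuotientGroup.mk y : Cfsg.PSU 6 F 2) = QuotientGroup.mk y₀ := by
    rw [hy, QuotientGroup.mk_mul, (QuotientGroup.eq_one_iff _).2 hy0, mul_one]
  obtain ⟨L, hL, hLy⟩ := exists_list hF y hyy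
  obtain ⟨hcomm, hsq⟩ := lift_props ψ hψ hc hk hF
  refine ⟨(L.map (lift ψ hψ hF)).prod, ?_, ?_⟩
  · clear hLy hyy hym hy
    induction L with
    | nil => simp
    | cons v L ih =>
      have hv : ∀ u ∈ L, Commute (lift ψ hψ hF v) (lift ψ hψ hF u) := fun u hu =>
        hcomm v u (hL v List.mem_cons_self v List.mem_cons_self)
          (hL u (List.mem_cons_of_mem _ hu) u (List.mem_cons_of_mem _ hu))
          (hL v List.mem_cons_self u (List.mem_cons_of_mem _ hu))
      have hvp : Commute (lift ψ hψ hF v) (L.map (lift ψ hψ hF)).prod :=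
        Commute.list_prod_right _ _ fun b hb => by
          obtain ⟨u, hu, rfl⟩ := List.mem_map.1 hb
          exact hv u hu
      rw [List.map_cons, List.prod_cons, hvp.symm.mul_mul_mul_comm, hsq v (hL v List.mem_cons_self v
        List.mem_cons_self), ih fun a ha b hb => hL a (List.mem_cons_of_mem _ ha) b
          (List.mem_cons_of_mem _ hb), one_mul]
  · rw [map_list_prod, List.map_map, ← hym, hLy,
      ← QuotientGroup.mk'_apply, map_list_prod, List.map_map]
    refine congrArg List.prod (List.map_congr_left fun v _ => ?_)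
    simp [lift_spec, tP]

end Cfsg.Agent.U62Cover
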